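import Groth.Agent.Lib.TameDifferent
import Mathlib.RingTheory.DedekindDomain.Factorization
import Mathlib.RingTheory.Trace.Quotient

/-! # The trace modulo a prime as a sum over the primes above it -/

set_option autoImplicit false
set_option linter.all false

universe u

attribute [local instance] FractionRing.liftAlgebra

namespace GrothLib.TraceRes2

theorem trace_pi {K ι : Type*} [Field K] [Fintype ι] {C : ι → Type*} [∀ i, CommRing (C i)]
    [∀ i, Algebra K (C i)] [∀ i, FiniteDimensional K (C i)] (x : ∀ i, C i) :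
    Algebra.trace K (∀ i, C i) x = ∑ i, Algebra.trace K (C i) (x i) := by
  classical
  let b := fun i ↦ Module.finBasis K (C i)
  rw [Algebra.trace_eq_matrix_trace (Pi.basis b), Matrix.trace, Fintype.sum_sigma]
  refine Finset.sum_congr rfl fun i _ ↦ ?_
  rw [Algebra.trace_eq_matrix_trace (b i), Matrix.trace]
  refine Finset.sum_congr rfl fun j _ ↦ ?_
  simp [Matrix.diag, Algebra.leftMulMatrix_eq_repr_mul, Pi.basis_apply, Pi.basis_repr]

theorem trace_quotient_pow {B K : Type u} [CommRing B] [IsDedekindDomain B] [Field K]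
    (Q : Ideal B) [Q.IsPrime] (hQ : Q ≠ ⊥) (e : ℕ) (he : e ≠ 0) [Algebra K (B ⧸ Q ^ e)]
    [Algebra K (B ⧸ Q)] [FiniteDimensional K (B ⧸ Q ^ e)]
    (hc : ∀ c : K, Ideal.Quotient.factor (Ideal.pow_le_self he) (algebraMap K (B ⧸ Q ^ e) c) =
      algebraMap K (B ⧸ Q) c)
    (y : B) :
    Algebra.trace K (B ⧸ Q ^ e) (Ideal.Quotient.mk _ y) =
      e • Algebra.trace K (B ⧸ Q) (Ideal.Quotient.mk Q y) := by
  haveI hmax : Q.IsMaximal := ‹Q.IsPrime›.isMaximal hQ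
  obtain ⟨π, hπ, hπ2⟩ := Ideal.exists_mem_pow_notMem_pow_succ Q hQ Ideal.IsPrime.ne_top' 1
  rw [pow_one] at hπ
  obtain ⟨J, hJ⟩ := Ideal.dvd_iff_le.mpr ((Ideal.span_singleton_le_iff_mem (I := Q)).mpr hπ)
  have hJQ : ¬ J ≤ Q := fun h ↦ hπ2 (by
    rw [← Ideal.span_singleton_le_iff_mem, hJ, pow_two]
    exact Ideal.mul_mono le_rfl h)
  have hJtop : J ⊔ Q = ⊤ := by
    rw [sup_comm]
    exact hmax.1.2 _ (lt_of_le_of_ne le_sup_left fun h ↦ hJQ (h ▸ le_sup_right))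
  have hsup : Ideal.span {π} ⊔ Q ^ e = Q := by
    obtain ⟨m, rfl⟩ := Nat.exists_eq_succ_of_ne_zero he
    rw [hJ, pow_succ', ← Ideal.mul_sup, Ideal.sup_pow_eq_top hJtop, Ideal.mul_top]
  have hπn : ∀ n : ℕ, π ^ n ∉ Q ^ (n + 1) := fun n h ↦ by
    have h1 : Q ^ n * J ^ n ≤ Q ^ n * Q := by
      rw [← mul_pow, ← hJ, Ideal.span_singleton_pow, Ideal.span_singleton_le_iff_mem, ← pow_succ]
      exact h
    rw [← Ideal.dvd_iff_le, mul_dvd_mul_iff_left (pow_ne_zero n (by exact hQ)), Ideal.dvd_iff_le] at h1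
    rcases n with - | n
    · rw [pow_zero, Ideal.one_eq_top] at h1
      exact ‹Q.IsPrime›.ne_top (eq_top_iff.mpr h1)
    · exact hJQ ((Ideal.IsPrime.pow_le_iff (n.succ_ne_zero)).mp h1)
  set t : B ⧸ Q ^ e := Ideal.Quotient.mk _ π
  have hmem : ∀ c : B, t ∣ Ideal.Quotient.mk _ c ↔ c ∈ Q := fun c ↦ by
    constructor
    · rintro ⟨d, hd⟩
      obtain ⟨d, rfl⟩ := Ideal.Quotient.mk_surjective d
      rw [← map_mul, Ideal.Quotient.eq] at hd
      have := Q.add_mem (Ideal.pow_le_self he hd) (Q.mul_mem_right d hπ)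
      rwa [sub_add_cancel] at this
    · intro h
      rw [← hsup, Submodule.mem_sup] at h
      obtain ⟨a, ha, b, hb, rfl⟩ := h
      rw [map_add, Ideal.Quotient.eq_zero_iff_mem.mpr hb, add_zero]
      exact map_dvd _ (Ideal.mem_span_singleton.mp ha)
  rw [GrothLib.TameDifferent.trace_eq_nsmul t e ?_ ?_]
  · congr 1
    let φ : (B ⧸ Q ^ e) →ₐ[K] B ⧸ Q :=
      { toRingHom := Ideal.Quotient.factor (Ideal.pow_le_self he)
        commutes' := hc }
    have hφ : Function.Surjective φ := Ideal.Quotient.factor_surjective (Ideal.pow_le_self (I := Q) he)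
    have hker : Ideal.span {t} = RingHom.ker φ := by
      ext c
      obtain ⟨c, rfl⟩ := Ideal.Quotient.mk_surjective c
      rw [Ideal.mem_span_singleton, hmem, RingHom.mem_ker]
      exact Ideal.Quotient.eq_zero_iff_mem.symm
    let ε : ((B ⧸ Q ^ e) ⧸ Ideal.span {t}) ≃ₐ[K] B ⧸ Q :=
      (Ideal.quotientEquivAlgOfEq _ hker).trans (Ideal.quotientKerAlgEquivOfSurjective hφ)
    rw [← Algebra.trace_eq_of_algEquiv ε]
    rfl
  · rw [← map_pow, Ideal.Quotient.eq_zero_iff_mem]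
    exact Ideal.pow_mem_pow hπ e
  · intro n hn c hc'
    obtain ⟨c, rfl⟩ := Ideal.Quotient.mk_surjective c
    obtain ⟨d, hd⟩ := hc'
    obtain ⟨d, rfl⟩ := Ideal.Quotient.mk_surjective d
    rw [← map_pow, ← map_pow, ← map_mul, ← map_mul, Ideal.Quotient.eq] at hd
    have h1 := Ideal.pow_le_pow_right (I := Q) (show n + 1 ≤ e by omega) hd
    have h2 : π ^ n * c ∈ Q ^ (n + 1) := by
      have := (Q ^ (n + 1)).add_mem h1 ((Q ^ (n + 1)).mul_mem_right d (Ideal.pow_mem_pow hπ (n + 1)))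
      rwa [sub_add_cancel] at this
    rw [mul_comm] at h2
    exact (hmem c).mpr ((Ideal.IsPrime.mul_mem_pow Q h2).resolve_right (hπn n))

theorem intTrace_residue (A B : Type u) [CommRing A] [CommRing B]
    [IsDedekindDomain A] [IsDedekindDomain B] [Algebra A B] [Module.Finite A B] [Module.IsTorsionFree A B]
    [Algebra.IsSeparable (FractionRing A) (FractionRing B)]
    (p : Ideal A) [p.IsMaximal] (hp : p ≠ ⊥) (y : B) :
    Ideal.Quotient.mk p (Algebra.intTrace A B y) =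
      ∑ᶠ Q : p.primesOver B,
        Q.1.ramificationIdx A •
          Algebra.trace (A ⧸ p) (B ⧸ Q.1) (Ideal.Quotient.mk Q.1 y) := by
  classical
  letI : Field (A ⧸ p) := Ideal.Quotient.field p
  rw [finsum_eq_sum_of_fintype, ← Algebra.trace_quotient_eq_of_isDedekindDomain]
  let I := p.map (algebraMap A B)
  let ι := p.primesOver B
  let e : ι → ℕ := fun Q ↦ Q.1.ramificationIdx A
  have hne : ∀ Q : ι, Q.1 ≠ ⊥ := fun Q h ↦ by
    haveI := Q.2.2
    exact hp (by rw [Q.1.over_def p, h, Ideal.under_bot])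
  have hprime : ∀ Q : ι, Prime Q.1 := fun Q ↦ Ideal.prime_of_isPrime (hne Q) Q.2.1
  have hprod : ∏ Q : ι, Q.1 ^ e Q = I := by
    rw [show I = _ from Ideal.map_algebraMap_eq_finsetProd_pow hp]
    exact Finset.prod_bij (fun Q _ ↦ Q.1) (fun Q _ ↦ by simp [Q.2]) (fun _ _ _ _ h ↦ Subtype.ext h)
      (fun P hP ↦ ⟨⟨P, by simpa using hP⟩, Finset.mem_univ _, rfl⟩) fun _ _ ↦ rfl
  have hle : ∀ Q : ι, I ≤ Q.1 ^ e Q := fun Q ↦ by
    rw [← hprod, ← Ideal.dvd_iff_le]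
    exact Finset.dvd_prod_of_mem _ (Finset.mem_univ Q)
  letI : ∀ Q : ι, Algebra (A ⧸ p) (B ⧸ Q.1 ^ e Q) := fun Q ↦
    ((Ideal.Quotient.factor (hle Q)).comp (algebraMap (A ⧸ p) (B ⧸ I))).toAlgebra
  haveI : ∀ Q : ι, IsScalarTower A (A ⧸ p) (B ⧸ Q.1 ^ e Q) := fun Q ↦
    IsScalarTower.of_algebraMap_eq fun a ↦ rfl
  haveI : ∀ Q : ι, FiniteDimensional (A ⧸ p) (B ⧸ Q.1 ^ e Q) := fun Q ↦
    Module.Finite.of_restrictScalars_finite A _ _
  let φ := IsDedekindDomain.quotientEquivPiOfProdEq I (fun Q : ι ↦ Q.1) e hprime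
    (fun _ _ h ↦ Subtype.coe_injective.ne h) hprod
  have hφ : ∀ b, φ (Ideal.Quotient.mk I b) = fun Q ↦ Ideal.Quotient.mk _ b := fun b ↦ rfl
  let ψ : (B ⧸ I) ≃ₐ[A ⧸ p] ∀ Q : ι, B ⧸ Q.1 ^ e Q :=
    AlgEquiv.ofRingEquiv (f := φ) fun c ↦ by
      obtain ⟨a, rfl⟩ := Ideal.Quotient.mk_surjective c
      exact hφ (algebraMap A B a)
  have h0 := Algebra.trace_eq_of_algEquiv ψ (Ideal.Quotient.mk I y)
  rw [← h0, show ψ (Ideal.Quotient.mk I y) = fun Q ↦ Ideal.Quotient.mk _ y from hφ y, trace_pi]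
  refine Finset.sum_congr rfl fun Q _ ↦ ?_
  haveI := Q.2.1
  haveI := Q.2.2
  have he : e Q ≠ 0 := (Ideal.ramificationIdx_pos Q.1 A).ne'
  refine trace_quotient_pow Q.1 (hne Q) (e Q) he (fun c ↦ ?_) y
  obtain ⟨a, rfl⟩ := Ideal.Quotient.mk_surjective c
  rfl

end GrothLib.TraceRes2
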